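import Cfsg.Prelude.Def_Blocks
import Cfsg.Agent.CharBasic.Integral
import Cfsg.Agent.CharBasic.Kernel
import Cfsg.Agent.CharInduce.Induce
import Cfsg.Agent.CharInduce.Twist
import Cfsg.Agent.H84.InvariantAbove
import Cfsg.Agent.H75.Cover
import Mathlib

/-!
# Vanishing elements: three elementary sources
-/

set_option autoImplicit false

namespace Cfsg.Agent.H79.Vanish

open Cfsg.Agent

universe u

variable {G : Type u} [Group G] [Finite G]

/-- A central element is never a zero of an irreducible character. -/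
theorem ne_zero_of_mem_center {χ : G → ℂ} (hχ : Cfsg.IsIrrCharacter G χ) {z : G}
    (hz : z ∈ Subgroup.center G) : χ z ≠ 0 := by
  have h1 := CharBasic.IsIrr.one_ne_zero hχ
  obtain ⟨n, ρ, hρ, rfl⟩ := hχ
  obtain ⟨ω, -, hω, hmul⟩ := CharBasic.exists_central_scalar ρ hz
  intro h0
  have := hmul 1
  rw [one_mul, h0] at this
  rcases mul_eq_zero.1 this.symm with h | h
  · simp [h] at hω
  · exact h1 h

/-- If some commutator of `x` is central and nontrivial, `x` is a vanishing element. -/
theorem exists_zero_of_central_commutator {x v z : G} (hz : z ∈ Subgroup.center G) (hz1 : z ≠ 1)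
    (hv : v * x * v⁻¹ = x * z) : ∃ χ : Cfsg.IrrCharacter G, (χ : G → ℂ) x = 0 := by
  obtain ⟨⟨χ, hχ⟩, hne⟩ := CharBasic.exists_irr_ne_of_ne_one hz1
  refine ⟨⟨χ, hχ⟩, ?_⟩
  have hcl := CharBasic.IsIrr.isClassFunction hχ x v
  rw [hv] at hcl
  obtain ⟨n, ρ, hρ, rfl⟩ := hχ
  obtain ⟨ω, -, -, hmul⟩ := CharBasic.exists_central_scalar ρ hz
  by_contra h0
  apply hne
  rw [hmul x] at hcl
  have hω : ω = 1 := mul_right_cancel₀ h0 (by rw [one_mul]; exact hcl)
  have := hmul 1
  rw [one_mul, hω, one_mul] at this
  exact this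

/-- Non-central elements of a nilpotent group are vanishing. -/
theorem exists_zero_of_nilpotent : ∀ (m : ℕ) (Q : Type u) [Group Q] [Finite Q] [Group.IsNilpotent Q],
    Nat.card Q = m → ∀ x : Q, x ∉ Subgroup.center Q →
      ∃ χ : Cfsg.IrrCharacter Q, (χ : Q → ℂ) x = 0 := by
  intro m
  induction m using Nat.strong_induction_on with
  | _ m ih =>
    intro Q _ _ _ hm x hx
    by_cases hc : QuotientGroup.mk' (Subgroup.center Q) x ∈
        Subgroup.center (Q ⧸ Subgroup.center Q)
    · obtain ⟨v, hv⟩ : ∃ v, v * x ≠ x * v := by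
        by_contra h
        push Not at h
        exact hx (Subgroup.mem_center_iff.2 h)
      have hz : x⁻¹ * (v * x * v⁻¹) ∈ Subgroup.center Q := by
        rw [← QuotientGroup.eq_one_iff]
        have := Subgroup.mem_center_iff.1 hc (QuotientGroup.mk' (Subgroup.center Q) v)
        simp only [QuotientGroup.mk'_apply] at this
        rw [QuotientGroup.mk_mul, QuotientGroup.mk_mul, QuotientGroup.mk_mul, QuotientGroup.mk_inv,
          QuotientGroup.mk_inv, this]
        group
      exact exists_zero_of_central_commutator hz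
        (fun h => hv (by rw [inv_mul_eq_one, eq_mul_inv_iff_mul_eq] at h; exact h.symm)) (v := v)
        (by group)
    · haveI : Nontrivial Q := by
        by_contra h
        rw [not_nontrivial_iff_subsingleton] at h
        exact hx (Subgroup.mem_center_iff.2 fun g => Subsingleton.elim _ _)
      have hlt : Nat.card (Q ⧸ Subgroup.center Q) < m := by
        have h1 : (Subgroup.center Q) ≠ ⊥ :=
          Group.IsNilpotent.center_ne_bot Q
        have h2 : 1 < Nat.card (Subgroup.center Q) :=
          Subgroup.one_lt_card_iff_ne_bot _ |>.2 h1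
        rw [← hm, Subgroup.card_eq_card_quotient_mul_card_subgroup (Subgroup.center Q)]
        exact lt_mul_of_one_lt_right Nat.card_pos h2
      obtain ⟨χ, hχ⟩ := ih _ hlt (Q ⧸ Subgroup.center Q) rfl _ hc
      exact ⟨⟨fun q => (χ : Q ⧸ Subgroup.center Q → ℂ) (QuotientGroup.mk' (Subgroup.center Q) q),
        CharInduce.IsIrr.comp χ.2 (QuotientGroup.mk' (Subgroup.center Q))
          (QuotientGroup.mk'_surjective _)⟩, hχ⟩

/-- An element central modulo `N` that moves `θ` is a zero, with its whole coset, of every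
character above `θ`. -/
theorem zero_on_coset (N : Subgroup G) [N.Normal] {θ : N → ℂ} (hθ : Cfsg.IsIrrCharacter N θ)
    {x : G} (hx : ∀ g : G, g * x * g⁻¹ * x⁻¹ ∈ N) (hmove : CharInduce.conjFun N θ x ≠ θ) :
    ∃ χ : Cfsg.IrrCharacter G, ∀ n ∈ N, (χ : G → ℂ) (n * x) = 0 := by
  classical
  have := Fintype.ofFinite G
  have := Fintype.ofFinite N
  obtain ⟨χ, hχ⟩ := H84.exists_irr_above (N := N) hθ
  obtain ⟨φ, -, hind, -⟩ := CharInduce.exists_clifford_correspondent N χ.2 hθ hχ
  have hle := CharInduce.le_inertia N (CharBasic.IsIrr.isClassFunction hθ)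
  refine ⟨χ, fun n hn => ?_⟩
  rw [← hind]
  refine CharInduce.indFun_eq_zero_of_forall_not_mem _ _ fun g hg => hmove ?_
  rw [← CharInduce.mem_inertia]
  have h1 : g⁻¹ * (n * x) * g * x⁻¹ ∈ N := by
    have e : g⁻¹ * (n * x) * g * x⁻¹ = g⁻¹ * n * g⁻¹⁻¹ * (g⁻¹ * x * g⁻¹⁻¹ * x⁻¹) := by group
    rw [e]
    exact N.mul_mem (‹N.Normal›.conj_mem n hn g⁻¹) (hx g⁻¹)
  have h2 := Subgroup.mul_mem _ (Subgroup.inv_mem _ (hle h1)) hg
  simpa [mul_assoc] using h2

/-- A `p`-element fixing every irreducible character of a normal `p'`-subgroup centralizes it. -/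
theorem commute_of_forall_fixed (N : Subgroup G) [N.Normal] {p : ℕ} [Fact p.Prime]
    (hN : ¬ p ∣ Nat.card N) {x : G} (hx : ∃ k, orderOf x = p ^ k)
    (hfix : ∀ θ : Cfsg.IrrCharacter N, CharInduce.conjFun N (θ : N → ℂ) x = (θ : N → ℂ)) :
    ∀ n ∈ N, n * x = x * n := by
  classical
  have := Fintype.ofFinite N
  have : Finite (ConjClasses N) := Finite.of_surjective _ ConjClasses.mk_surjective
  have : Finite (Cfsg.IrrCharacter N) := CharBasic.finite_irrCharacter
  let σ : N → N := MulAut.conjNormal x
  have hσ : ∀ χ : Cfsg.IrrCharacter N, (χ : N → ℂ) ∘ σ = (χ : N → ℂ) := fun χ => by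
    have := hfix χ
    rw [CharInduce.conjFun_eq_comp] at this
    exact this
  have h := CharInduce.card_fixed_irr_eq_card_fixed_classes σ (fun χ => (hσ χ).symm ▸ χ.2)
  have hall : ∀ g : N, IsConj g (σ g) := by
    intro g
    rw [Nat.card_congr (Equiv.subtypeUnivEquiv fun χ => hσ χ), Nat.card_eq_fintype_card,
      ← Nat.card_eq_fintype_card, CharBasic.card_irrCharacter] at h
    by_contra hg
    have hlt : Nat.card {C : ConjClasses N // ∀ g : N, ConjClasses.mk g = C → IsConj g (σ g)}
        < Nat.card (ConjClasses N) := Finite.card_subtype_lt (x := ConjClasses.mk g) fun h => hg (h g rfl)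
    omega
  let A : Subgroup G := Subgroup.zpowers x
  have hA : IsPGroup p A := by
    obtain ⟨k, hk⟩ := hx
    exact IsPGroup.of_card (n := k) (by rw [Nat.card_zpowers, hk])
  let C : Subgroup N := (Subgroup.centralizer ({x} : Set G)).subgroupOf N
  have hC : C = ⊤ := by
    refine H75.eq_top_of_conj_cover C fun n => ?_
    let S : Subgroup (MulAut N) := Subgroup.zpowers (MulAut.conjNormal x)
    let Stab : Subgroup (MulAut N) :=
      { carrier := {e | ∀ m : N, IsConj n m ↔ IsConj n (e m)}
        one_mem' := fun m => Iff.rfl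
        mul_mem' := fun {a b} ha hb m => (hb m).trans (ha (b m))
        inv_mem' := fun {a} ha m => by
          have := ha (a⁻¹ m)
          simp only [MulAut.apply_inv_self] at this
          exact this.symm }
    have hxS : MulAut.conjNormal x ∈ Stab := fun m => by
      constructor
      · exact fun h => h.trans (hall m)
      · exact fun h => h.trans (hall m).symm
    have hS : ∀ e ∈ S, ∀ m : N, IsConj n m → IsConj n (e m) := fun e he m hm =>
      ((Subgroup.zpowers_le.2 hxS) he m).1 hm
    letI : MulAction S {m : N // IsConj n m} :=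
      { smul := fun e m => ⟨(e : MulAut N) m.1, hS e e.2 m.1 m.2⟩
        one_smul := fun m => Subtype.ext rfl
        mul_smul := fun a b m => Subtype.ext rfl }
    have hSp : IsPGroup p S := by
      have : S = A.map (MulAut.conjNormal : G →* MulAut N) := (MonoidHom.map_zpowers _ x).symm
      rw [this]
      exact hA.map _
    have hnd : ¬ p ∣ Nat.card {m : N // IsConj n m} := fun h => hN (h.trans
      (by rw [CharBasic.card_conjugates_eq_index]; exact Subgroup.index_dvd_card _))
    obtain ⟨⟨m, hm⟩, hfixm⟩ := hSp.nonempty_fixed_point_of_prime_not_dvd_card _ hnd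
    have hmx : MulAut.conjNormal x m = m :=
      congrArg Subtype.val (hfixm ⟨_, Subgroup.mem_zpowers _⟩)
    obtain ⟨c, hc⟩ := isConj_iff.1 hm
    refine ⟨c, ?_⟩
    rw [hc, Subgroup.mem_subgroupOf, Subgroup.mem_centralizer_singleton_iff]
    have := congrArg Subtype.val hmx
    rw [MulAut.conjNormal_apply, mul_inv_eq_iff_eq_mul] at this
    exact this.symm
  intro n hn
  have : (⟨n, hn⟩ : N) ∈ C := hC ▸ Subgroup.mem_top _
  rw [Subgroup.mem_subgroupOf, Subgroup.mem_centralizer_singleton_iff] at this
  exact this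

end Cfsg.Agent.H79.Vanish
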